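import Groth.Agent.Lib.DynLim23.Eval
import Groth.Agent.Lib.CoalgH23.Criteria
import Groth.Agent.Lib.CoalgH23.Trig
import Mathlib.RingTheory.Polynomial.Basic
import Mathlib.Algebra.Polynomial.Eval.Coeff

/-!
# The contracted subgroup is connected and unipotent
-/

set_option autoImplicit false

universe u

open LaurentPolynomial TensorProduct WithConv Coalgebra
open scoped Groth.Agent.CoalgH23

noncomputable section

namespace Groth.Agent.DynLim23

section subst

variable {k : Type u} [CommRing k] {A : Type u} [CommRing A] [HopfAlgebra k A] (lam : A →ₐc[k] k[T;T⁻¹])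
variable (B : Type u) [CommRing B] [Algebra k B]

/-- `T ↦ T S`. -/
def dbl : B[T;T⁻¹] →ₐ[k] (B[T;T⁻¹])[T;T⁻¹] :=
  (AddMonoidAlgebra.lift B _ ℤ
    { toFun := fun n => AddMonoidAlgebra.single n.toAdd (AddMonoidAlgebra.single n.toAdd (1 : B))
      map_one' := rfl
      map_mul' := fun a b => by
        rw [AddMonoidAlgebra.single_mul_single, AddMonoidAlgebra.single_mul_single, mul_one, toAdd_mul] }).restrictScalars k

theorem dbl_single (n : ℤ) (r : B) :
    dbl (k := k) B (AddMonoidAlgebra.single n r) = AddMonoidAlgebra.single n (AddMonoidAlgebra.single n r) := by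
  show AddMonoidAlgebra.lift B _ ℤ _ (AddMonoidAlgebra.single n r) = _
  rw [AddMonoidAlgebra.lift_single]
  show r • AddMonoidAlgebra.single n (AddMonoidAlgebra.single n (1 : B)) = _
  rw [AddMonoidAlgebra.smul_single, AddMonoidAlgebra.smul_single, smul_eq_mul, mul_one]

theorem dbl_comp_lamR : toConv ((dbl (k := k) B).comp (Dyn.lamR k A lam B)) =
    toConv (Dyn.lamR k A lam B[T;T⁻¹]) * toConv ((incl B[T;T⁻¹]).comp (Dyn.lamR k A lam B)) := by
  let o : k[T;T⁻¹] →ₐ[k] B[T;T⁻¹] := AddMonoidAlgebra.mapAlgHom ℤ (Algebra.ofId k B)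
  let f : k[T;T⁻¹] →ₐ[k] (B[T;T⁻¹])[T;T⁻¹] := AddMonoidAlgebra.mapAlgHom ℤ (Algebra.ofId k B[T;T⁻¹])
  let g : k[T;T⁻¹] →ₐ[k] (B[T;T⁻¹])[T;T⁻¹] := (incl B[T;T⁻¹]).comp o
  have hfg : (toConv f * toConv g).ofConv = (dbl (k := k) B).comp o := by
    refine AlgHom.ext fun z => ?_
    induction z using LaurentPolynomial.induction_on' with
    | add a b ha hb => simp only [map_add, ha, hb]
    | C_mul_T n a =>
      rw [← LaurentPolynomial.single_eq_C_mul_T]
      show Algebra.TensorProduct.lmul' k (Algebra.TensorProduct.map f g (Bialgebra.comulAlgHom k _ _)) = _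
      rw [Bialgebra.comulAlgHom_apply, AddMonoidAlgebra.comul_single]
      simp only [CommSemiring.comul_apply, TensorProduct.map_tmul, AddMonoidAlgebra.lsingle_apply,
        Algebra.TensorProduct.map_tmul, Algebra.TensorProduct.lmul'_apply_tmul, AlgHom.comp_apply, f, g, o]
      rw [mapAlg_single, mapAlg_single, dbl_single]
      show _ * AddMonoidAlgebra.single (0 : ℤ) _ = _
      rw [AddMonoidAlgebra.single_mul_single, add_zero]
      congr 1
      show algebraMap k B[T;T⁻¹] _ * _ = _
      rw [IsScalarTower.algebraMap_apply k B B[T;T⁻¹], map_one]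
      show AddMonoidAlgebra.single (0 : ℤ) _ * _ = _
      simp only [Algebra.algebraMap_self, RingHom.id_apply]
      rw [AddMonoidAlgebra.single_mul_single, zero_add]
      simp [Algebra.ofId_apply]
  have h := AlgHom.convMul_comp_bialgHom_distrib (toConv f) (toConv g) lam
  rw [Dyn.lamR, Dyn.lamR, ← AlgHom.comp_assoc, show (dbl (k := k) B).comp (AddMonoidAlgebra.mapAlgHom ℤ (Algebra.ofId k B)) =
    (toConv f * toConv g).ofConv from hfg.symm]
  exact congrArg toConv h

theorem conjOrbit_conjOrbit (q : A →ₐ[k] B) :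
    Dyn.conjOrbit k A lam B[T;T⁻¹] (Dyn.conjOrbit k A lam B q) = (dbl B).comp (Dyn.conjOrbit k A lam B q) := by
  refine WithConv.toConv_injective ?_
  have e1 : toConv ((incl B[T;T⁻¹]).comp (Dyn.conjOrbit k A lam B q)) =
      postHom (incl B[T;T⁻¹]) (toConv (Dyn.conjOrbit k A lam B q)) := rfl
  rw [show toConv ((dbl (k := k) B).comp (Dyn.conjOrbit k A lam B q)) =
    postHom (dbl B) (toConv (Dyn.conjOrbit k A lam B q)) from rfl, conjOrbit_eq, e1, conjOrbit_eq]
  simp only [map_mul, map_inv]
  have e2 : postHom (dbl (k := k) B) (toConv (Dyn.lamR k A lam B)) =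
      toConv (Dyn.lamR k A lam B[T;T⁻¹]) * postHom (incl B[T;T⁻¹]) (toConv (Dyn.lamR k A lam B)) := dbl_comp_lamR lam B
  have e3 : postHom (dbl (k := k) B) (toConv ((incl B).comp q)) = postHom (incl B[T;T⁻¹]) (toConv ((incl B).comp q)) := by
    refine congrArg toConv (AlgHom.ext fun a => ?_)
    exact dbl_single (k := k) B 0 (q a)
  rw [e2, e3]
  have e4 : ∀ {G : Type u} [Group G] (a b c : G), a * (b * c * b⁻¹) * a⁻¹ = a * b * c * (a * b)⁻¹ := by
    intros; group
  exact e4 _ _ _

/-- `X ↦ X Y`. -/
def sub2 : Polynomial B →ₐ[k] Polynomial (Polynomial B) :=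
  (Polynomial.aeval (R := B) (Polynomial.C Polynomial.X * Polynomial.X : Polynomial (Polynomial B))).restrictScalars k

theorem sub2_monomial (n : ℕ) (b : B) :
    sub2 (k := k) B (Polynomial.monomial n b) = Polynomial.monomial n (Polynomial.monomial n b) := by
  show Polynomial.aeval _ (Polynomial.monomial n b) = _
  rw [Polynomial.aeval_monomial, mul_pow, ← Polynomial.C_pow, ← mul_assoc,
    show algebraMap B (Polynomial (Polynomial B)) b = Polynomial.C (Polynomial.C b) from rfl, ← map_mul,
    Polynomial.C_mul_X_pow_eq_monomial, Polynomial.C_mul_X_pow_eq_monomial]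

/-- The polynomial orbit of a point with a limit has a polynomial orbit. -/
theorem orbit_sub2 (q : A →ₐ[k] B) (h : A →ₐ[k] Polynomial B)
    (hh : ((Polynomial.toLaurentAlg (R := B)).restrictScalars k).comp h = Dyn.conjOrbit k A lam B q) :
    ((Polynomial.toLaurentAlg (R := Polynomial B)).restrictScalars k).comp ((sub2 B).comp h) =
        Dyn.conjOrbit k A lam (Polynomial B) h := by
  set i := (Polynomial.toLaurentAlg (R := B)).restrictScalars k
  have hinj : Function.Injective (AddMonoidAlgebra.mapAlgHom ℤ i : (Polynomial B)[T;T⁻¹] →ₐ[k] (B[T;T⁻¹])[T;T⁻¹]) := by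
    intro x y hxy
    refine AddMonoidAlgebra.coeff_injective (Finsupp.ext fun m => Polynomial.toLaurent_injective ?_)
    have := congrArg (fun z => z.coeff m) hxy
    simp only [AddMonoidAlgebra.coeff_mapAlgHom] at this
    exact this
  refine AlgHom.ext fun a => hinj ?_
  have e := conjOrbit_naturality lam (Polynomial B) h i
  have e' := AlgHom.congr_fun (WithConv.toConv_injective e) a
  rw [AlgHom.comp_apply] at e'
  rw [← e', hh, conjOrbit_conjOrbit, ← hh]
  simp only [AlgHom.comp_apply]
  generalize h a = P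
  induction P using Polynomial.induction_on' with
  | add P Q hP hQ => simp only [map_add, hP, hQ]
  | monomial n b =>
    rw [sub2_monomial]
    simp only [i, AlgHom.restrictScalars_apply, Polynomial.toLaurentAlg_apply,
      ← Polynomial.C_mul_X_pow_eq_monomial, Polynomial.toLaurent_C_mul_X_pow, ← LaurentPolynomial.single_eq_C_mul_T,
      mapAlg_single, dbl_single]

/-- The polynomial orbit of a limit point again tends to one. -/
theorem orbit_of_orbit (q : A →ₐ[k] B) (h : A →ₐ[k] Polynomial B)
    (hh : ((Polynomial.toLaurentAlg (R := B)).restrictScalars k).comp h = Dyn.conjOrbit k A lam B q)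
    (h0 : ((Polynomial.aeval (R := B) (0 : B)).restrictScalars k).comp h = (Algebra.ofId k B).comp (Bialgebra.counitAlgHom k A)) :
    ((Polynomial.toLaurentAlg (R := Polynomial B)).restrictScalars k).comp ((sub2 B).comp h) =
        Dyn.conjOrbit k A lam (Polynomial B) h ∧
      Dyn.LimIsOne k A lam (Polynomial B) h := by
  have key := orbit_sub2 lam B q h hh
  refine ⟨key, (sub2 B).comp h, key, AlgHom.ext fun a => ?_⟩
  have hev : ∀ P : Polynomial B, (sub2 (k := k) B P).eval 0 = Polynomial.C (P.eval 0) := by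
    intro P
    induction P using Polynomial.induction_on' with
    | add P Q hP hQ => simp [hP, hQ]
    | monomial n b =>
      rw [sub2_monomial]
      rcases Nat.eq_zero_or_pos n with rfl | hn
      · simp
      · simp [zero_pow hn.ne']
  simp only [AlgHom.comp_apply, AlgHom.restrictScalars_apply, Polynomial.coe_aeval_eq_eval, hev]
  have h1 := AlgHom.congr_fun h0 a
  simp only [AlgHom.comp_apply, AlgHom.restrictScalars_apply, Polynomial.coe_aeval_eq_eval] at h1
  rw [h1]
  rfl

end subst

theorem coeff_natCast_toLaurent (R : Type u) [CommRing R] (P : Polynomial R) (n : ℕ) :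
    (Polynomial.toLaurent P).coeff (n : ℤ) = P.coeff n := by
  induction P using Polynomial.induction_on' with
  | add P Q hP hQ => rw [map_add, AddMonoidAlgebra.coeff_add, Finsupp.add_apply, hP, hQ, Polynomial.coeff_add]
  | monomial m r =>
    rw [← Polynomial.C_mul_X_pow_eq_monomial, Polynomial.toLaurent_C_mul_X_pow, ← LaurentPolynomial.single_eq_C_mul_T,
      AddMonoidAlgebra.coeff_single, Polynomial.coeff_C_mul_X_pow]
    rcases eq_or_ne n m with h | h
    · subst h; simp
    · rw [if_neg h]; exact Finsupp.single_eq_of_ne (by omega)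

theorem exists_eq_C_of_isIdempotentElem {B : Type u} [CommRing B] {P : Polynomial B} (hP : IsIdempotentElem P) :
    ∃ c : B, IsIdempotentElem c ∧ P = Polynomial.C c := by
  refine ⟨P.eval 0, hP.map (Polynomial.evalRingHom 0), ?_⟩
  have h1 : ∀ x : B, IsIdempotentElem x → IsNilpotent x → x = 0 := fun x hx hn => by
    obtain ⟨m, hm⟩ := hn
    rw [← hx.pow_succ_eq m, pow_succ, hm, zero_mul]
  have hC : IsIdempotentElem (Polynomial.C (P.eval 0)) := (hP.map (Polynomial.evalRingHom 0)).map Polynomial.C
  ext n : 1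
  rcases Nat.eq_zero_or_pos n with rfl | hn
  · rw [Polynomial.coeff_C_zero, Polynomial.coeff_zero_eq_eval_zero]
  rw [Polynomial.coeff_C, if_neg hn.ne']
  induction n using Nat.strong_induction_on with
  | _ n ih =>
    have h2 := congrArg (fun Q : Polynomial B => Q.coeff n) hP.eq
    simp only [Polynomial.coeff_mul] at h2
    rw [Finset.sum_eq_add_sum_sdiff_singleton_of_mem (show (0, n) ∈ Finset.antidiagonal n by simp),
      Finset.sum_eq_single (n, 0)] at h2
    · simp only [Polynomial.coeff_zero_eq_eval_zero] at h2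
      have hc : IsIdempotentElem (P.eval 0) := hP.map (Polynomial.evalRingHom 0)
      have e : (P.eval 0 + P.eval 0 - 1) * P.coeff n = 0 := by linear_combination h2
      have : (P.eval 0 + P.eval 0 - 1) * (P.eval 0 + P.eval 0 - 1) = 1 := by linear_combination 4 * hc.eq
      calc P.coeff n = ((P.eval 0 + P.eval 0 - 1) * (P.eval 0 + P.eval 0 - 1)) * P.coeff n := by rw [this, one_mul]
        _ = 0 := by rw [mul_assoc, e, mul_zero]
    · rintro ⟨i, j⟩ hij hne
      simp only [Finset.mem_sdiff, Finset.mem_antidiagonal, Finset.mem_singleton, Prod.mk.injEq] at hij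
      rw [ih i (by grind) (by grind), zero_mul]
    · simp [hn.ne']

theorem coeff_mapMul {k : Type u} [CommRing k] {B : Type u} [CommRing B] [Algebra k B] (x y : B)
    (h : B →ₐ[k] Polynomial B) (L : B ⊗[k] B →ₗ[k] k) (n : ℕ) :
    L (((Algebra.TensorProduct.lmul' k).comp (Algebra.TensorProduct.map
      ((Polynomial.mapAlgHom (Algebra.TensorProduct.includeLeft : B →ₐ[k] B ⊗[k] B)).comp h)
      ((Polynomial.mapAlgHom (Algebra.TensorProduct.includeRight : B →ₐ[k] B ⊗[k] B)).comp h)) (x ⊗ₜ[k] y)).coeff n) =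
    ∑ ij ∈ Finset.antidiagonal n, L ((h x).coeff ij.1 ⊗ₜ[k] (h y).coeff ij.2) := by
  simp only [AlgHom.comp_apply, Algebra.TensorProduct.map_tmul, Algebra.TensorProduct.lmul'_apply_tmul,
    Polynomial.coeff_mul, map_sum]
  refine Finset.sum_congr rfl fun ij _ => congrArg L ?_
  simp [Polynomial.mapAlgHom, Polynomial.coeff_map]

/-- A product of Laurent points which are polynomial is the product of the polynomial points. -/
theorem eq_mul_of_toLaurent {k : Type u} [CommRing k] {A : Type u} [CommRing A] [HopfAlgebra k A]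
    {C : Type u} [CommRing C] [Algebra k C] {f' f g : A →ₐ[k] Polynomial C}
    (h : toConv (((Polynomial.toLaurentAlg (R := C)).restrictScalars k).comp f') =
      toConv (((Polynomial.toLaurentAlg (R := C)).restrictScalars k).comp f) *
        toConv (((Polynomial.toLaurentAlg (R := C)).restrictScalars k).comp g)) (a : A) :
    f' a = Algebra.TensorProduct.lmul' k (Algebra.TensorProduct.map f g (comul (R := k) a)) := by
  have h' := congrArg WithConv.ofConv (h.trans
    (map_mul (postHom (k := k) (A := A) ((Polynomial.toLaurentAlg (R := C)).restrictScalars k)) (toConv f) (toConv g)).symm)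
  exact Polynomial.toLaurent_injective (AlgHom.congr_fun h' a)

section field

variable {k : Type u} [Field k] {A : Type u} [CommRing A] [HopfAlgebra k A] (lam : A →ₐc[k] k[T;T⁻¹])
  (J : Ideal A) [J.IsHopfIdeal k] (hJ : Dyn.Represents k A J (fun R _ _ g => Dyn.LimIsOne k A lam R g))

include hJ in
theorem exists_contraction : ∃ h : A ⧸ J →ₐ[k] Polynomial (A ⧸ J),
    (∀ b, (h b).eval 1 = b) ∧
    (∀ b, (h b).coeff 0 = algebraMap k (A ⧸ J) (counit (R := k) b)) ∧
    (∀ (b : A ⧸ J) (m n : ℕ), (h ((h b).coeff n)).coeff m = if m = n then (h b).coeff n else 0) ∧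
    (∀ (b : A ⧸ J) (n : ℕ) (L : (A ⧸ J) ⊗[k] (A ⧸ J) →ₗ[k] k),
      L (comul (R := k) ((h b).coeff n)) = L ((((Algebra.TensorProduct.lmul' k (S := Polynomial ((A ⧸ J) ⊗[k] (A ⧸ J)))).comp (Algebra.TensorProduct.map
        ((Polynomial.mapAlgHom (Algebra.TensorProduct.includeLeft : A ⧸ J →ₐ[k] (A ⧸ J) ⊗[k] (A ⧸ J))).comp h)
        ((Polynomial.mapAlgHom (Algebra.TensorProduct.includeRight : A ⧸ J →ₐ[k] (A ⧸ J) ⊗[k] (A ⧸ J))).comp h)))
          (comul (R := k) b)).coeff n)) := by
  let B := A ⧸ J
  let q : A →ₐ[k] B := Ideal.Quotient.mkₐ k J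
  have hq : ∀ a, q a = Ideal.Quotient.mk J a := fun _ => rfl
  obtain ⟨h₁, hh, h0⟩ := (hJ B q).1 fun a ha => Ideal.Quotient.eq_zero_iff_mem.2 ha
  obtain ⟨horb, hlim⟩ := orbit_of_orbit lam B q h₁ hh h0
  let h : B →ₐ[k] Polynomial B := Ideal.Quotient.liftₐ J h₁ fun a ha => (hJ (Polynomial B) h₁).2 hlim a ha
  have hhq : h.comp q = h₁ := AlgHom.ext fun a => rfl
  have hc : ∀ a (n : ℕ), (Dyn.conjOrbit k A lam B q a).coeff (n : ℤ) = (h₁ a).coeff n := fun a n => by
    rw [← hh]
    exact coeff_natCast_toLaurent B (h₁ a) n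
  refine ⟨h, fun b => ?_, fun b => ?_, fun b m n => ?_, fun b n L => ?_⟩
  · obtain ⟨a, rfl⟩ := Ideal.Quotient.mk_surjective b
    refine Eq.trans ?_ (AlgHom.congr_fun (evOne_conjOrbit lam B q) a)
    rw [← hh]
    show (h₁ a).eval 1 = _
    simp only [AlgHom.comp_apply, AlgHom.restrictScalars_apply, Polynomial.toLaurentAlg_apply]
    generalize h₁ a = P
    induction P using Polynomial.induction_on' with
    | add P Q hP hQ => simp only [map_add, Polynomial.eval_add, hP, hQ]
    | monomial m r =>
      rw [← Polynomial.C_mul_X_pow_eq_monomial, Polynomial.toLaurent_C_mul_X_pow, ← LaurentPolynomial.single_eq_C_mul_T,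
        evOne_single]
      simp
  · obtain ⟨a, rfl⟩ := Ideal.Quotient.mk_surjective b
    have h1 := AlgHom.congr_fun h0 a
    simp only [AlgHom.comp_apply, AlgHom.restrictScalars_apply, Polynomial.coe_aeval_eq_eval] at h1
    rw [show h (Ideal.Quotient.mk J a) = h₁ a from rfl, Polynomial.coeff_zero_eq_eval_zero, h1]
    rfl
  · obtain ⟨a, rfl⟩ := Ideal.Quotient.mk_surjective b
    show (h ((h₁ a).coeff n)).coeff m = if m = n then (h₁ a).coeff n else 0
    have e := conjOrbit_naturality lam B q h
    rw [hhq, ← horb] at e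
    have e' := congrArg (fun f => (f.ofConv a).coeff (n : ℤ)) e
    simp only [ofConv_toConv, AlgHom.comp_apply, AlgHom.restrictScalars_apply, Polynomial.toLaurentAlg_apply,
      AddMonoidAlgebra.coeff_mapAlgHom, hc] at e'
    rw [coeff_natCast_toLaurent] at e'
    rw [← e']
    generalize h₁ a = P
    induction P using Polynomial.induction_on' with
    | add P Q hP hQ =>
      simp only [map_add, Polynomial.coeff_add, hP, hQ]
      split_ifs <;> simp
    | monomial l r =>
      rw [sub2_monomial]
      simp only [Polynomial.coeff_monomial]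
      split_ifs <;> first | rfl | simp_all [Polynomial.coeff_monomial, eq_comm]
  · obtain ⟨a, rfl⟩ := Ideal.Quotient.mk_surjective b
    congr 1
    show comul (R := k) ((h₁ a).coeff n) = _
    let BB := B ⊗[k] B
    let l : B →ₐ[k] BB := Algebra.TensorProduct.includeLeft
    let r : B →ₐ[k] BB := Algebra.TensorProduct.includeRight
    let Δ : B →ₐ[k] BB := Bialgebra.comulAlgHom k B
    have hΔ : toConv (l.comp q) * toConv (r.comp q) = toConv (Δ.comp q) := by
      refine WithConv.ofConv_injective (AlgHom.ext fun x => ?_)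
      show Algebra.TensorProduct.lmul' k (Algebra.TensorProduct.map (l.comp q) (r.comp q) (comul (R := k) x)) =
        comul (R := k) (Ideal.Quotient.mk J x)
      have hmap : comul (R := k) (Ideal.Quotient.mk J x) =
          TensorProduct.map q.toLinearMap q.toLinearMap (comul (R := k) x) :=
        (Groth.Agent.CoalgH23.comul_mk J x)
      rw [hmap]
      generalize comul (R := k) x = z
      induction z with
      | zero => simp
      | add u v hu hv => simp only [map_add, hu, hv]
      | tmul u v =>
        simp only [Algebra.TensorProduct.map_tmul, Algebra.TensorProduct.lmul'_apply_tmul, AlgHom.comp_apply,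
          TensorProduct.map_tmul, AlgHom.toLinearMap_apply]
        change (q u ⊗ₜ[k] (1 : B)) * ((1 : B) ⊗ₜ[k] q v) = _
        rw [Algebra.TensorProduct.tmul_mul_tmul, mul_one, one_mul]
    have hmul := map_mul (orbitHom lam BB) (toConv (l.comp q)) (toConv (r.comp q))
    rw [hΔ, orbitHom_apply, orbitHom_apply, orbitHom_apply] at hmul
    simp only [ofConv_toConv] at hmul
    rw [conjOrbit_naturality lam B q Δ, conjOrbit_naturality lam B q l, conjOrbit_naturality lam B q r] at hmul
    have hpush : ∀ φ : B →ₐ[k] BB, (AddMonoidAlgebra.mapAlgHom ℤ φ).comp (Dyn.conjOrbit k A lam B q) =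
        ((Polynomial.toLaurentAlg (R := BB)).restrictScalars k).comp ((Polynomial.mapAlgHom φ).comp h₁) := fun φ => by
      rw [← hh, ← AlgHom.comp_assoc, ← AlgHom.comp_assoc]
      congr 1
      refine AlgHom.ext fun P => ?_
      induction P using Polynomial.induction_on' with
      | add P Q hP hQ => simp only [map_add, hP, hQ]
      | monomial m s =>
        simp only [AlgHom.comp_apply, AlgHom.restrictScalars_apply, Polynomial.toLaurentAlg_apply,
          Polynomial.mapAlgHom, Polynomial.coe_mapRingHom, AlgHom.coe_mk, Polynomial.map_monomial,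
          ← Polynomial.C_mul_X_pow_eq_monomial, Polynomial.toLaurent_C_mul_X_pow,
          ← LaurentPolynomial.single_eq_C_mul_T, mapAlg_single]
        simp [← LaurentPolynomial.single_eq_C_mul_T]
    rw [hpush, hpush, hpush] at hmul
    have hmul'' := congrArg (fun P : Polynomial BB => P.coeff n) (eq_mul_of_toLaurent hmul a)
    refine Eq.trans ?_ (hmul''.trans ?_)
    · show _ = ((Polynomial.mapAlgHom Δ) (h₁ a)).coeff n
      simp only [Polynomial.mapAlgHom, AlgHom.coe_mk, Polynomial.coe_mapRingHom, Polynomial.coeff_map]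
      rfl
    · show (Algebra.TensorProduct.lmul' k (S := Polynomial BB) (Algebra.TensorProduct.map ((Polynomial.mapAlgHom l).comp h₁)
        ((Polynomial.mapAlgHom r).comp h₁) (comul (R := k) a))).coeff n = _
      congr 1
      rw [show comul (R := k) (Ideal.Quotient.mk J a) = TensorProduct.map q.toLinearMap q.toLinearMap (comul (R := k) a) from
        Groth.Agent.CoalgH23.comul_mk J a]
      generalize comul (R := k) a = z
      induction z with
      | zero => simp
      | add u v hu hv => simp only [map_add, hu, hv]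
      | tmul u v => rfl

include hJ in
theorem noIdempotents : ∀ e : A ⧸ J, IsIdempotentElem e → e = 0 ∨ e = 1 := by
  intro e he
  obtain ⟨h, h1, h0, -, -⟩ := exists_contraction lam J hJ
  obtain ⟨c, hc, hce⟩ := exists_eq_C_of_isIdempotentElem (he.map h)
  have e1 : e = c := by rw [← h1 e, hce, Polynomial.eval_C]
  have e0 : c = algebraMap k (A ⧸ J) (counit (R := k) e) := by rw [← h0 e, hce, Polynomial.coeff_C_zero]
  rcases IsIdempotentElem.iff_eq_zero_or_one.1 (show IsIdempotentElem (counit (R := k) e) from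
    he.map (Bialgebra.counitAlgHom k (A ⧸ J))) with h2 | h2
  · left; rw [e1, e0, h2, map_zero]
  · right; rw [e1, e0, h2, map_one]

open HopfRep Groth.Agent.CoalgH23 in
include hJ in
theorem isUnipotent : IsUnipotent k (A ⧸ J) := by
  classical
  obtain ⟨h, h1, h0, hcc, hco⟩ := exists_contraction lam J hJ
  intro V _ _ _ hfin hnt
  haveI := hfin
  let c : ℕ → (A ⧸ J →ₗ[k] A ⧸ J) := fun n => (Polynomial.lcoeff (A ⧸ J) n).restrictScalars k ∘ₗ h.toLinearMap
  have hcdef : ∀ n b, c n b = (h b).coeff n := fun _ _ => rfl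
  let P : ℕ → Prop := fun N => ∃ (χ : A ⧸ J →ₗ[k] k) (v : V), (toConv (χ ∘ₗ c N) : WithConv _) • v ≠ 0
  have hP0 : P 0 := by
    obtain ⟨v, hv⟩ := exists_ne (0 : V)
    refine ⟨(counit (R := k) : A ⧸ J →ₗ[k] k), v, ?_⟩
    rw [show (counit (R := k) : A ⧸ J →ₗ[k] k) ∘ₗ c 0 = counit (R := k) from LinearMap.ext fun b => by
      rw [LinearMap.comp_apply, hcdef, h0, Bialgebra.counit_algebraMap]]
    rwa [show (toConv (counit (R := k) : A ⧸ J →ₗ[k] k) : WithConv _) = 1 by
      rw [LinearMap.convOne_def]; exact congrArg toConv (LinearMap.ext fun z => by simp), one_smul]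
  -- coefficients
  let b := Module.finBasis k V
  let Φ := TensorProduct.equivFinsuppOfBasisLeft (N := A ⧸ J) b
  let co : V → Fin (Module.finrank k V) → A ⧸ J := fun v i => Φ (Comod.coact (k := k) (A := A ⧸ J) v) i
  have hslice : ∀ (χ : A ⧸ J →ₗ[k] k) (v : V) i, b.repr ((toConv χ : WithConv _) • v) i = χ (co v i) := by
    intro χ v i
    show b.repr (slice χ (Comod.coact (k := k) (A := A ⧸ J) v)) i = χ (Φ (Comod.coact (k := k) (A := A ⧸ J) v) i)
    generalize Comod.coact (k := k) (A := A ⧸ J) v = z
    induction z with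
    | zero => simp
    | add x y hx hy => simp only [map_add, Finsupp.add_apply, hx, hy]
    | tmul x y => simp [slice, Φ, mul_comm]
  obtain ⟨M, hM⟩ : ∃ M, ∀ N, P N → N ≤ M := by
    refine ⟨Finset.univ.sup fun ij : Fin (Module.finrank k V) × Fin (Module.finrank k V) => (h (co (b ij.1) ij.2)).natDegree, ?_⟩
    rintro N ⟨χ, v, hv⟩
    by_contra hN
    push Not at hN
    refine hv ?_
    have hb : ∀ j, (toConv (χ ∘ₗ c N) : WithConv _) • b j = 0 := fun j => b.ext_elem fun i => by
      rw [hslice, LinearMap.comp_apply, hcdef, Polynomial.coeff_eq_zero_of_natDegree_lt (lt_of_le_of_lt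
        (Finset.le_sup (f := fun ij : Fin (Module.finrank k V) × Fin (Module.finrank k V) => (h (co (b ij.1) ij.2)).natDegree)
          (Finset.mem_univ (j, i))) hN)]
      simp
    rw [← b.sum_repr v, Finset.smul_sum]
    exact Finset.sum_eq_zero fun j _ => by rw [smul_comm, hb, smul_zero]
  set N := Nat.findGreatest P M with hN
  obtain ⟨χ, v, hv⟩ : P N := Nat.findGreatest_spec (Nat.zero_le M) hP0
  have htop : ∀ (i : Fin _) (n : ℕ), N < n → (h (co v i)).coeff n = 0 := by
    intro i n hn
    by_contra hne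
    obtain ⟨φ, hφ, -⟩ := Submodule.exists_dual_map_eq_bot_of_notMem (p := (⊥ : Submodule k (A ⧸ J)))
      (x := (h (co v i)).coeff n) (by simpa using hne) inferInstance
    have hPn : P n := ⟨φ, v, fun hz => hφ (by
      have := hslice (φ ∘ₗ c n) v i
      rw [hz, map_zero, Finsupp.zero_apply] at this
      exact this.symm)⟩
    have := Nat.le_findGreatest (hM n hPn) hPn
    omega
  refine (Submodule.ne_bot_iff _).2 ⟨_, ?_, hv⟩
  refine eq_of_slice_eq fun ψ => ?_
  rw [show slice ψ ((toConv (χ ∘ₗ c N) • v) ⊗ₜ[k] (1 : A ⧸ J)) = ψ 1 • ((toConv (χ ∘ₗ c N) : WithConv _) • v) by simp [slice]]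
  change (toConv ψ : WithConv _) • ((toConv (χ ∘ₗ c N) : WithConv _) • v) = _
  rw [← mul_smul]
  refine b.ext_elem fun i => ?_
  rw [show (toConv ψ * toConv (χ ∘ₗ c N) : WithConv _) = toConv (toConv ψ * toConv (χ ∘ₗ c N)).ofConv from rfl,
    hslice, map_smul b.repr, Finsupp.smul_apply, hslice, smul_eq_mul, LinearMap.convMul_def]
  set L : (A ⧸ J) ⊗[k] (A ⧸ J) →ₗ[k] k := LinearMap.mul' k k ∘ₗ TensorProduct.map ψ (χ ∘ₗ c N)
  show L (comul (R := k) (co v i)) = ψ 1 * χ (c N (co v i))
  generalize hβ : co v i = β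
  have hdeg : (h β).natDegree ≤ N := Polynomial.natDegree_le_iff_coeff_eq_zero.2 fun n hn => hβ ▸ htop i n hn
  have hsum : β = ∑ n ∈ Finset.range (N + 1), (h β).coeff n := by
    conv_lhs => rw [← h1 β, Polynomial.eval_eq_sum_range' (Nat.lt_succ_of_le hdeg)]
    simp
  conv_lhs => rw [hsum]
  rw [map_sum, map_sum, Finset.sum_range_succ, Finset.sum_eq_zero, zero_add]
  · rw [hco β N L]
    have key : ∀ z : (A ⧸ J) ⊗[k] (A ⧸ J), L (((Algebra.TensorProduct.lmul' k (S := Polynomial ((A ⧸ J) ⊗[k] (A ⧸ J)))).comp (Algebra.TensorProduct.map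
        ((Polynomial.mapAlgHom (Algebra.TensorProduct.includeLeft : A ⧸ J →ₐ[k] (A ⧸ J) ⊗[k] (A ⧸ J))).comp h)
        ((Polynomial.mapAlgHom (Algebra.TensorProduct.includeRight : A ⧸ J →ₐ[k] (A ⧸ J) ⊗[k] (A ⧸ J))).comp h)) z).coeff N) =
        ψ 1 * χ (c N (TensorProduct.lid k _ ((counit (R := k)).rTensor (A ⧸ J) z))) := by
      intro z
      induction z with
      | zero => simp
      | add x y hx hy => simp only [map_add, Polynomial.coeff_add, hx, hy, mul_add]
      | tmul x y =>
        rw [coeff_mapMul x y h L N, Finset.sum_eq_single (0, N)]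
        · simp only [L, LinearMap.comp_apply, TensorProduct.map_tmul, LinearMap.mul'_apply, hcdef, hcc, if_true, h0,
            Algebra.algebraMap_eq_smul_one, map_smul, LinearMap.rTensor_tmul, TensorProduct.lid_tmul, smul_eq_mul,
            Polynomial.coeff_smul]
          ring
        · rintro ⟨i, j⟩ hij hne
          rw [Finset.mem_antidiagonal] at hij
          simp only [L, LinearMap.comp_apply, TensorProduct.map_tmul, LinearMap.mul'_apply, hcdef, hcc]
          rw [if_neg (fun hj => hne (by subst hj; congr 1; omega)), map_zero, mul_zero]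
        · simp [Finset.mem_antidiagonal]
    rw [key, rTensor_counit_comul, TensorProduct.lid_tmul, one_smul]
  · intro n hn
    rw [Finset.mem_range] at hn
    rw [hco β n L]
    generalize comul (R := k) β = z
    induction z with
    | zero => simp
    | add x y hx hy => simp only [map_add, Polynomial.coeff_add, hx, hy, add_zero]
    | tmul x y =>
      rw [coeff_mapMul x y h L n]
      refine Finset.sum_eq_zero ?_
      rintro ⟨i, j⟩ hij
      rw [Finset.mem_antidiagonal] at hij
      simp only [L, LinearMap.comp_apply, TensorProduct.map_tmul, LinearMap.mul'_apply, hcdef, hcc]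
      rw [if_neg (by omega), map_zero, mul_zero]

end field

end Groth.Agent.DynLim23
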