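import Groth.Prelude.Def_Dyn
import Groth.Agent.Lib.LiePts20.Basic
import Mathlib.RingTheory.HopfAlgebra.Quotient
import Mathlib.GroupTheory.GroupAction.ConjAct

/-!
# The subgroups of points with a limit under a one-parameter subgroup
-/

set_option autoImplicit false

universe u

open LaurentPolynomial TensorProduct WithConv Coalgebra

noncomputable section

namespace Groth.Agent.DynLim23

variable {k : Type u} [CommRing k] {A : Type u} [CommRing A] [HopfAlgebra k A] (lam : A →ₐc[k] k[T;T⁻¹])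

theorem conv3_eq {C : Type u} [CommRing C] [Algebra k C] (f g h : A →ₐ[k] C) :
    toConv (Dyn.conv3 k A f g h) = toConv f * toConv g * toConv h := by
  refine WithConv.ofConv_injective (AlgHom.toLinearMap_injective ?_)
  have h1 := LiePts20.lin_conv3 f g h
  have h2 := AlgHom.toLinearMap_convMul (toConv f * toConv g) (toConv h)
  have h3 := AlgHom.toLinearMap_convMul (toConv f) (toConv g)
  exact WithConv.toConv_injective (h1.trans (by rw [h2, h3]; rfl))

instance ptsGroup {C : Type u} [CommRing C] [Algebra k C] : Group (WithConv (A →ₐ[k] C)) :=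
  { (inferInstance : Monoid (WithConv (A →ₐ[k] C))) with
    inv := fun f => toConv (f.ofConv.comp (HopfAlgebra.antipodeAlgHom k A))
    inv_mul_cancel := fun f => by
      refine WithConv.ofConv_injective (AlgHom.toLinearMap_injective ?_)
      have h2 := AlgHom.toLinearMap_convMul (toConv (f.ofConv.comp (HopfAlgebra.antipodeAlgHom k A))) f
      have h3 := LiePts20.lin_comp_antipode_mul f.ofConv
      exact WithConv.toConv_injective ((h2.trans h3).trans AlgHom.toLinearMap_convOne.symm) }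

variable (R : Type u) [CommRing R] [Algebra k R]

/-- Constant points. -/
def incl : R →ₐ[k] R[T;T⁻¹] := IsScalarTower.toAlgHom k R R[T;T⁻¹]

theorem conjOrbit_eq (g : A →ₐ[k] R) : toConv (Dyn.conjOrbit k A lam R g) =
    toConv (Dyn.lamR k A lam R) * toConv ((incl R).comp g) * (toConv (Dyn.lamR k A lam R))⁻¹ := by
  rw [Dyn.conjOrbit, conv3_eq]
  rfl

theorem comp_mul {C C' : Type u} [CommRing C] [Algebra k C] [CommRing C'] [Algebra k C'] (φ : C →ₐ[k] C')
    (f g : WithConv (A →ₐ[k] C)) : toConv (φ.comp (f * g).ofConv) = toConv (φ.comp f.ofConv) * toConv (φ.comp g.ofConv) :=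
  WithConv.ofConv_injective (AlgHom.comp_convMul_distrib φ f g)

/-- Postcomposition as a homomorphism of groups of points. -/
def postHom {C C' : Type u} [CommRing C] [Algebra k C] [CommRing C'] [Algebra k C'] (φ : C →ₐ[k] C') :
    WithConv (A →ₐ[k] C) →* WithConv (A →ₐ[k] C') :=
  MonoidHom.mk' (fun f => toConv (φ.comp f.ofConv)) fun f g => comp_mul φ f g

/-- The conjugated orbit as a homomorphism of groups. -/
def orbitHom : WithConv (A →ₐ[k] R) →* WithConv (A →ₐ[k] R[T;T⁻¹]) :=
  (MulAut.conj (toConv (Dyn.lamR k A lam R))).toMonoidHom.comp (postHom (incl R))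

theorem orbitHom_apply (g : WithConv (A →ₐ[k] R)) :
    orbitHom lam R g = toConv (Dyn.conjOrbit k A lam R g.ofConv) := (conjOrbit_eq lam R g.ofConv).symm

/-- Polynomial points. -/
def polyHom : WithConv (A →ₐ[k] Polynomial R) →* WithConv (A →ₐ[k] R[T;T⁻¹]) :=
  postHom ((Polynomial.toLaurentAlg (R := R)).restrictScalars k)

/-- The points with a limit. -/
def limGrp : Subgroup (WithConv (A →ₐ[k] R)) := (polyHom R).range.comap (orbitHom lam R)

theorem mem_limGrp (g : A →ₐ[k] R) : toConv g ∈ limGrp lam R ↔ Dyn.LimExists k A lam R g := by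
  rw [limGrp, Subgroup.mem_comap, orbitHom_apply]
  exact ⟨fun ⟨h, hh⟩ => ⟨h.ofConv, congrArg WithConv.ofConv hh⟩, fun ⟨h, hh⟩ => ⟨toConv h, congrArg toConv hh⟩⟩

/-- The points with limit one. -/
def oneGrp : Subgroup (WithConv (A →ₐ[k] R)) :=
  ((postHom ((Polynomial.aeval (R := R) (0 : R)).restrictScalars k)).ker.map (polyHom R)).comap (orbitHom lam R)

theorem mem_oneGrp (g : A →ₐ[k] R) : toConv g ∈ oneGrp lam R ↔ Dyn.LimIsOne k A lam R g := by
  rw [oneGrp, Subgroup.mem_comap, orbitHom_apply]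
  exact ⟨fun ⟨h, h0, hh⟩ => ⟨h.ofConv, congrArg WithConv.ofConv hh, congrArg WithConv.ofConv h0⟩,
    fun ⟨h, hh, h0⟩ => ⟨toConv h, congrArg toConv h0, congrArg toConv hh⟩⟩

/-- An ideal whose zeros form subgroups is a Hopf ideal. -/
theorem isHopfIdeal_of_subgroups (J : Ideal A)
    (G : ∀ (R : Type u) [CommRing R] [Algebra k R], Subgroup (WithConv (A →ₐ[k] R)))
    (hG : ∀ (R : Type u) [CommRing R] [Algebra k R] (g : A →ₐ[k] R), (∀ a ∈ J, g a = 0) ↔ toConv g ∈ G R) :
    J.IsHopfIdeal k := by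
  have hε : ∀ x ∈ J, counit (R := k) x = 0 := fun x hx => by
    exact (hG k (Bialgebra.counitAlgHom k A)).2 (one_mem (G k)) x hx
  let q := Ideal.Quotient.mkₐ k J
  have hq : toConv q ∈ G (A ⧸ J) := (hG _ q).1 fun a ha => Ideal.Quotient.eq_zero_iff_mem.2 ha
  let QQ := (A ⧸ J) ⊗[k] (A ⧸ J)
  let l : A ⧸ J →ₐ[k] QQ := Algebra.TensorProduct.includeLeft
  let r : A ⧸ J →ₐ[k] QQ := Algebra.TensorProduct.includeRight
  have hm := mul_mem ((hG _ (l.comp q)).1 fun a ha => by
      rw [AlgHom.comp_apply, show q a = 0 from Ideal.Quotient.eq_zero_iff_mem.2 ha, map_zero])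
    ((hG _ (r.comp q)).1 fun a ha => by
      rw [AlgHom.comp_apply, show q a = 0 from Ideal.Quotient.eq_zero_iff_mem.2 ha, map_zero])
  have hΔ : ∀ x ∈ J, Algebra.TensorProduct.map q q (Bialgebra.comulAlgHom k A x) = 0 := fun x hx => by
    have h := (hG QQ _).2 hm x hx
    change Algebra.TensorProduct.lmul' k (Algebra.TensorProduct.map (l.comp q) (r.comp q) (Bialgebra.comulAlgHom k A x)) = 0 at h
    refine Eq.trans ?_ h
    rw [Bialgebra.comulAlgHom_apply]
    induction comul (R := k) x with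
    | zero => simp
    | add a b ha hb => simp only [map_add, ha, hb]
    | tmul a b =>
      simp only [Algebra.TensorProduct.map_tmul, Algebra.TensorProduct.lmul'_apply_tmul, AlgHom.comp_apply]
      change q a ⊗ₜ[k] q b = (q a ⊗ₜ[k] (1 : A ⧸ J)) * ((1 : A ⧸ J) ⊗ₜ[k] q b)
      rw [Algebra.TensorProduct.tmul_mul_tmul, mul_one, one_mul]
  have hS : ∀ x ∈ J, HopfAlgebra.antipode k x ∈ J := fun x hx =>
    Ideal.Quotient.eq_zero_iff_mem.1 ((hG _ (q.comp (HopfAlgebra.antipodeAlgHom k A))).2 (inv_mem hq) x hx)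
  exact { counit_eq_zero := fun x hx => hε x hx
          map_mkQ_comul_eq_zero := fun x hx => hΔ x hx
          antipode_mem := fun x hx => hS x hx }

theorem conjOrbit_naturality {R' : Type u} [CommRing R'] [Algebra k R'] (g : A →ₐ[k] R) (φ : R →ₐ[k] R') :
    toConv (Dyn.conjOrbit k A lam R' (φ.comp g)) =
      toConv ((AddMonoidAlgebra.mapAlgHom ℤ φ).comp (Dyn.conjOrbit k A lam R g)) := by
  set Φ : R[T;T⁻¹] →ₐ[k] R'[T;T⁻¹] := AddMonoidAlgebra.mapAlgHom ℤ φ
  have h1 : Φ.comp (incl R) = (incl R').comp φ := AlgHom.ext fun x => by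
    show Φ (AddMonoidAlgebra.single 0 x) = AddMonoidAlgebra.single 0 (φ x)
    refine AddMonoidAlgebra.coeff_injective (Finsupp.ext fun m => ?_)
    rw [AddMonoidAlgebra.coeff_mapAlgHom, AddMonoidAlgebra.coeff_single, AddMonoidAlgebra.coeff_single]
    by_cases h : (0 : ℤ) = m
    · subst h; simp
    · simp [Finsupp.single_eq_of_ne (Ne.symm h)]
  have h2 : Φ.comp (Dyn.lamR k A lam R) = Dyn.lamR k A lam R' := by
    rw [Dyn.lamR, Dyn.lamR, ← AlgHom.comp_assoc]
    congr 1
    refine AlgHom.ext fun x => ?_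
    induction x using LaurentPolynomial.induction_on' with
    | add a b ha hb => simp only [map_add, ha, hb]
    | C_mul_T n a => simp [Φ, ← LaurentPolynomial.single_eq_C_mul_T]
  rw [conjOrbit_eq, show toConv (Φ.comp (Dyn.conjOrbit k A lam R g)) = postHom Φ (toConv (Dyn.conjOrbit k A lam R g)) from rfl,
    conjOrbit_eq, map_mul, map_mul, map_inv]
  change _ = toConv (Φ.comp (Dyn.lamR k A lam R)) * toConv (Φ.comp ((incl R).comp g)) *
    (toConv (Φ.comp (Dyn.lamR k A lam R)))⁻¹
  rw [h2, ← AlgHom.comp_assoc Φ, h1, AlgHom.comp_assoc (incl R')]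

theorem coeff_conjOrbit (g : A →ₐ[k] R) (a : A) (n : ℤ) :
    (Dyn.conjOrbit k A lam R g a).coeff n = g ((Dyn.conjOrbit k A lam A (AlgHom.id k A) a).coeff n) := by
  have h := congrArg (fun f : WithConv (A →ₐ[k] R[T;T⁻¹]) => f.ofConv a) (conjOrbit_naturality lam A (AlgHom.id k A) g)
  simp only [AlgHom.comp_id, ofConv_toConv, AlgHom.comp_apply] at h
  rw [h]
  simp [AddMonoidAlgebra.mapAlgHom]

theorem coeff_toLaurent_of_neg (P : Polynomial R) {n : ℤ} (hn : n < 0) : (Polynomial.toLaurent P).coeff n = 0 := by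
  induction P using Polynomial.induction_on' with
  | add P Q hP hQ => rw [map_add, AddMonoidAlgebra.coeff_add, Finsupp.add_apply, hP, hQ, add_zero]
  | monomial m r =>
    rw [← Polynomial.C_mul_X_pow_eq_monomial, Polynomial.toLaurent_C_mul_X_pow, ← single_eq_C_mul_T, AddMonoidAlgebra.coeff_single]
    exact Finsupp.single_eq_of_ne (by omega)

theorem coeff_zero_toLaurent (P : Polynomial R) : (Polynomial.toLaurent P).coeff 0 = P.coeff 0 := by
  induction P using Polynomial.induction_on' with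
  | add P Q hP hQ => rw [map_add, AddMonoidAlgebra.coeff_add, Finsupp.add_apply, hP, hQ, Polynomial.coeff_add]
  | monomial m r =>
    rw [← Polynomial.C_mul_X_pow_eq_monomial, Polynomial.toLaurent_C_mul_X_pow, ← single_eq_C_mul_T,
      AddMonoidAlgebra.coeff_single, Polynomial.coeff_C_mul_X_pow]
    rcases eq_or_ne 0 m with h | h
    · subst h; simp
    · rw [if_neg h]; exact Finsupp.single_eq_of_ne (by omega)

theorem exists_toLaurent (f : R[T;T⁻¹]) (hf : ∀ n : ℤ, n < 0 → f.coeff n = 0) : ∃ P, Polynomial.toLaurent P = f := by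
  refine ⟨∑ n ∈ f.coeff.support, Polynomial.C (f.coeff n) * Polynomial.X ^ n.toNat, ?_⟩
  rw [map_sum]
  refine AddMonoidAlgebra.coeff_injective ?_
  rw [AddMonoidAlgebra.coeff_sum]
  conv_rhs => rw [← Finsupp.sum_single f.coeff]
  refine Finset.sum_congr rfl fun n hn => ?_
  have h0 : 0 ≤ n := le_of_not_gt fun h => Finsupp.mem_support_iff.1 hn (hf n h)
  rw [Polynomial.toLaurent_C_mul_X_pow, Int.toNat_of_nonneg h0, ← single_eq_C_mul_T, AddMonoidAlgebra.coeff_single]

theorem limExists_iff (g : A →ₐ[k] R) :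
    Dyn.LimExists k A lam R g ↔ ∀ (a : A) (n : ℤ), n < 0 → (Dyn.conjOrbit k A lam R g a).coeff n = 0 := by
  constructor
  · rintro ⟨h, hh⟩ a n hn
    rw [← hh]
    exact coeff_toLaurent_of_neg R (h a) hn
  · intro hf
    set i := (Polynomial.toLaurentAlg (R := R)).restrictScalars k
    have hr : ∀ a, Dyn.conjOrbit k A lam R g a ∈ i.range := fun a => by
      obtain ⟨P, hP⟩ := exists_toLaurent R _ (hf a)
      exact ⟨P, hP⟩
    refine ⟨(AlgEquiv.ofInjective i Polynomial.toLaurent_injective).symm.toAlgHom.comp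
      ((Dyn.conjOrbit k A lam R g).codRestrict i.range hr), AlgHom.ext fun a => ?_⟩
    have := (AlgEquiv.ofInjective i Polynomial.toLaurent_injective).apply_symm_apply ⟨_, hr a⟩
    exact congrArg Subtype.val this

theorem limIsOne_iff (g : A →ₐ[k] R) : Dyn.LimIsOne k A lam R g ↔
    (∀ (a : A) (n : ℤ), n < 0 → (Dyn.conjOrbit k A lam R g a).coeff n = 0) ∧
      ∀ a, (Dyn.conjOrbit k A lam R g a).coeff 0 = algebraMap k R (counit (R := k) a) := by
  rw [← limExists_iff]
  constructor
  · rintro ⟨h, hh, h0⟩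
    refine ⟨⟨h, hh⟩, fun a => ?_⟩
    have h1 := AlgHom.congr_fun h0 a
    rw [← hh]
    refine (coeff_zero_toLaurent R (h a)).trans ?_
    simp only [AlgHom.comp_apply, AlgHom.restrictScalars_apply, Polynomial.coe_aeval_eq_eval] at h1
    rw [Polynomial.coeff_zero_eq_eval_zero, h1]
    rfl
  · rintro ⟨⟨h, hh⟩, h0⟩
    refine ⟨h, hh, AlgHom.ext fun a => ?_⟩
    have h1 := h0 a
    rw [← hh] at h1
    simp only [AlgHom.comp_apply, AlgHom.restrictScalars_apply, Polynomial.coe_aeval_eq_eval,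
      ← Polynomial.coeff_zero_eq_eval_zero]
    exact (coeff_zero_toLaurent R (h a)).symm.trans h1

/-- The ideal of the points with a limit. -/
def limIdeal : Ideal A :=
  Ideal.span {x | ∃ (a : A) (n : ℤ), n < 0 ∧ (Dyn.conjOrbit k A lam A (AlgHom.id k A) a).coeff n = x}

/-- The ideal of the points with limit one. -/
def oneIdeal : Ideal A :=
  limIdeal lam ⊔ Ideal.span {x | ∃ a : A, (Dyn.conjOrbit k A lam A (AlgHom.id k A) a).coeff 0 - algebraMap k A (counit (R := k) a) = x}

theorem forall_span_iff (g : A →ₐ[k] R) (s : Set A) : (∀ x ∈ Ideal.span s, g x = 0) ↔ ∀ x ∈ s, g x = 0 :=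
  ⟨fun h x hx => h x (Ideal.subset_span hx), fun h x hx => (Ideal.span_le (I := RingHom.ker g).2 h) hx⟩

theorem represents_limIdeal : Dyn.Represents k A (limIdeal lam) (fun R _ _ g => Dyn.LimExists k A lam R g) := by
  intro R _ _ g
  show _ ↔ Dyn.LimExists k A lam R g
  rw [limIdeal, forall_span_iff, limExists_iff]
  exact ⟨fun h a n hn => (coeff_conjOrbit lam R g a n).trans (h _ ⟨a, n, hn, rfl⟩),
    by rintro h _ ⟨a, n, hn, rfl⟩; exact (coeff_conjOrbit lam R g a n).symm.trans (h a n hn)⟩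

theorem represents_oneIdeal : Dyn.Represents k A (oneIdeal lam) (fun R _ _ g => Dyn.LimIsOne k A lam R g) := by
  intro R _ _ g
  show _ ↔ Dyn.LimIsOne k A lam R g
  rw [limIsOne_iff, oneIdeal, limIdeal, ← Ideal.span_union, forall_span_iff]
  refine ⟨fun h => ⟨fun a n hn => (coeff_conjOrbit lam R g a n).trans (h _ (Or.inl ⟨a, n, hn, rfl⟩)), fun a => ?_⟩, ?_⟩
  · have := h _ (Or.inr ⟨a, rfl⟩)
    rw [map_sub, AlgHom.commutes, sub_eq_zero, ← coeff_conjOrbit] at this
    exact this
  · rintro ⟨h1, h2⟩ x (⟨a, n, hn, rfl⟩ | ⟨a, rfl⟩)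
    · exact (coeff_conjOrbit lam R g a n).symm.trans (h1 a n hn)
    · rw [map_sub, AlgHom.commutes, sub_eq_zero, ← coeff_conjOrbit]
      exact h2 a

theorem isHopfIdeal_limIdeal : (limIdeal lam).IsHopfIdeal k :=
  isHopfIdeal_of_subgroups _ (fun R _ _ => limGrp lam R) fun R _ _ g =>
    (represents_limIdeal lam R g).trans (mem_limGrp lam R g).symm

theorem isHopfIdeal_oneIdeal : (oneIdeal lam).IsHopfIdeal k :=
  isHopfIdeal_of_subgroups _ (fun R _ _ => oneGrp lam R) fun R _ _ g =>
    (represents_oneIdeal lam R g).trans (mem_oneGrp lam R g).symm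

end Groth.Agent.DynLim23
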