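import Groth.Agent.Lib.DynLim23.Basic

/-!
# Evaluation and substitution in orbits
-/

set_option autoImplicit false

universe u

open LaurentPolynomial TensorProduct WithConv Coalgebra

noncomputable section

namespace Groth.Agent.DynLim23

variable {k : Type u} [CommRing k] {A : Type u} [CommRing A] [HopfAlgebra k A] (lam : A →ₐc[k] k[T;T⁻¹])
variable (R : Type u) [CommRing R] [Algebra k R]

/-- Evaluation at `T = 1`. -/
def evOne : R[T;T⁻¹] →ₐ[k] R := (AddMonoidAlgebra.lift R R ℤ 1).restrictScalars k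

theorem evOne_single (n : ℤ) (r : R) : evOne (k := k) R (AddMonoidAlgebra.single n r) = r := by
  show AddMonoidAlgebra.lift R R ℤ 1 (AddMonoidAlgebra.single n r) = r
  rw [AddMonoidAlgebra.lift_single]
  simp

theorem mapAlg_single {R' : Type u} [CommRing R'] [Algebra k R'] (φ : R →ₐ[k] R') (n : ℤ) (r : R) :
    AddMonoidAlgebra.mapAlgHom ℤ φ (AddMonoidAlgebra.single n r) = AddMonoidAlgebra.single n (φ r) := by
  refine AddMonoidAlgebra.coeff_injective (Finsupp.ext fun m => ?_)
  rw [AddMonoidAlgebra.coeff_mapAlgHom, AddMonoidAlgebra.coeff_single, AddMonoidAlgebra.coeff_single]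
  by_cases h : n = m
  · subst h; simp
  · simp [Finsupp.single_eq_of_ne (Ne.symm h)]

theorem evOne_comp_incl : (evOne (k := k) R).comp (incl R) = AlgHom.id k R :=
  AlgHom.ext fun x => evOne_single (k := k) R 0 x

theorem evOne_comp_lamR : (evOne (k := k) R).comp (Dyn.lamR k A lam R) =
    (Algebra.ofId k R).comp (Bialgebra.counitAlgHom k A) := by
  have h : ∀ z : k[T;T⁻¹], evOne (k := k) R (AddMonoidAlgebra.mapAlgHom ℤ (Algebra.ofId k R) z) =
      algebraMap k R (counit (R := k) z) := by
    intro z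
    induction z using LaurentPolynomial.induction_on' with
    | add a b ha hb => simp only [map_add, ha, hb]
    | C_mul_T n a =>
      rw [← LaurentPolynomial.single_eq_C_mul_T, mapAlg_single, evOne_single, AddMonoidAlgebra.counit_single]
      rfl
  refine AlgHom.ext fun a => ?_
  rw [AlgHom.comp_apply, Dyn.lamR, AlgHom.comp_apply, h]
  exact congrArg (algebraMap k R) (CoalgHomClass.counit_comp_apply lam a)

theorem evOne_conjOrbit (g : A →ₐ[k] R) : (evOne (k := k) R).comp (Dyn.conjOrbit k A lam R g) = g := by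
  refine WithConv.toConv_injective ?_
  rw [show toConv ((evOne (k := k) R).comp (Dyn.conjOrbit k A lam R g)) =
    postHom (evOne R) (toConv (Dyn.conjOrbit k A lam R g)) from rfl, conjOrbit_eq, map_mul, map_mul, map_inv]
  have h1 : postHom (evOne (k := k) R) (toConv (Dyn.lamR k A lam R)) = 1 := congrArg toConv (evOne_comp_lamR lam R)
  rw [h1, inv_one, mul_one, one_mul]
  exact congrArg toConv (by rw [ofConv_toConv, ← AlgHom.comp_assoc, evOne_comp_incl, AlgHom.id_comp])

/-- The substitution `T ↦ T⁻¹`. -/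
def inv' : R[T;T⁻¹] →ₐ[k] R[T;T⁻¹] := (LaurentPolynomial.invert (R := R)).toAlgHom.restrictScalars k

theorem conjOrbit_neg (lamNeg : A →ₐc[k] k[T;T⁻¹])
    (hneg : (lamNeg : A →ₐ[k] k[T;T⁻¹]) = Dyn.negParam k A lam) (g : A →ₐ[k] R) :
    Dyn.conjOrbit k A lamNeg R g = (inv' R).comp (Dyn.conjOrbit k A lam R g) := by
  refine WithConv.toConv_injective ?_
  rw [show toConv ((inv' (k := k) R).comp (Dyn.conjOrbit k A lam R g)) =
    postHom (inv' R) (toConv (Dyn.conjOrbit k A lam R g)) from rfl, conjOrbit_eq, conjOrbit_eq, map_mul, map_mul, map_inv]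
  have h1 : postHom (inv' (k := k) R) (toConv (Dyn.lamR k A lam R)) = toConv (Dyn.lamR k A lamNeg R) := by
    refine congrArg toConv (AlgHom.ext fun a => ?_)
    simp only [Dyn.lamR, AlgHom.comp_apply, hneg, Dyn.negParam, ofConv_toConv]
    generalize (lam : A →ₐ[k] k[T;T⁻¹]) a = z
    induction z using LaurentPolynomial.induction_on' with
    | add a b ha hb => simp only [map_add, ha, hb]
    | C_mul_T n a =>
      rw [← LaurentPolynomial.single_eq_C_mul_T]
      simp [inv', LaurentPolynomial.invert, ← LaurentPolynomial.single_eq_C_mul_T]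
  have h2 : postHom (inv' (k := k) R) (toConv ((incl R).comp g)) = toConv ((incl R).comp g) := by
    refine congrArg toConv (AlgHom.ext fun a => ?_)
    simp [inv', incl]
  rw [h1, h2]

theorem coeff_inv' (f : R[T;T⁻¹]) (n : ℤ) : (inv' (k := k) R f).coeff n = f.coeff (-n) := by
  simp [inv']

theorem conjOrbit_eq_incl_iff (lamNeg : A →ₐc[k] k[T;T⁻¹])
    (hneg : (lamNeg : A →ₐ[k] k[T;T⁻¹]) = Dyn.negParam k A lam) (g : A →ₐ[k] R) :
    (Dyn.LimExists k A lam R g ∧ Dyn.LimExists k A lamNeg R g) ↔
      Dyn.conjOrbit k A lam R g = (incl R).comp g := by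
  rw [limExists_iff, limExists_iff, conjOrbit_neg lam R lamNeg hneg]
  constructor
  · rintro ⟨h1, h2⟩
    refine AlgHom.ext fun a => ?_
    have hC : Dyn.conjOrbit k A lam R g a = AddMonoidAlgebra.single 0 ((Dyn.conjOrbit k A lam R g a).coeff 0) := by
      refine AddMonoidAlgebra.coeff_injective (Finsupp.ext fun n => ?_)
      rw [AddMonoidAlgebra.coeff_single]
      rcases lt_trichotomy n 0 with h | h | h
      · rw [h1 a n h, Finsupp.single_eq_of_ne (by omega)]
      · subst h; simp
      · have h3 := h2 a (-n) (by omega)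
        rw [AlgHom.comp_apply, coeff_inv', neg_neg] at h3
        rw [h3, Finsupp.single_eq_of_ne (by omega)]
    have h4 := AlgHom.congr_fun (evOne_conjOrbit lam R g) a
    rw [AlgHom.comp_apply, hC, evOne_single] at h4
    rw [hC, h4]
    rfl
  · intro h
    have hc : ∀ (a : A) (n : ℤ), n ≠ 0 → (Dyn.conjOrbit k A lam R g a).coeff n = 0 := fun a n hn => by
      rw [h]
      show (AddMonoidAlgebra.single (0 : ℤ) (g a)).coeff n = 0
      rw [AddMonoidAlgebra.coeff_single, Finsupp.single_eq_of_ne hn]
    refine ⟨fun a n hn => hc a n (by omega), fun a n hn => ?_⟩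
    rw [AlgHom.comp_apply, coeff_inv']
    exact hc a (-n) (by omega)

end Groth.Agent.DynLim23
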